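import Cfsg.Agent.H98.HermOrth.Main
import Cfsg.Agent.H98.OrthMax.PolarMain
import Cfsg.Agent.Aschbacher.Forms
import Cfsg.Agent.H98.TensorSp.Main

/-!
Stabilisers of a pair of totally singular halves and of a symplectic tensor decomposition are maximal in
dimension at least twelve (the proofs of the statements for dimension at least thirteen).
-/

set_option autoImplicit false
open Cfsg

namespace Cfsg.Agent.H12.OmegaTwelvePlus

section

open Module Cfsg.Agent.Orthogonal Cfsg.Agent.H98.OrthMax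

theorem isMaximalIn_tsHalves {F : Type*} [Field F] [Fintype F] {n : ℕ} (hn : 12 ≤ n) (heven : Even n) (Q : (Fin n → F) → F) (hQ : Cfsg.Geo.IsNondegenerateQuadraticForm Q) (hplus : Cfsg.Geo.IsPlusTypeOn Q ⊤) (k : ℕ) (hk : 2 * k = n) (hke : Even k) (D : Fin 2 → Submodule F (Fin n → F)) (hD : Cfsg.Geo.IsMDecomposition k D) (hts : ∀ i, Cfsg.Geo.IsTotallySingularQuad Q (D i)) : Cfsg.Geo.IsMaximalIn (Cfsg.Geo.omegaGL Q) (Cfsg.Geo.decompositionStabilizer D ⊓ Cfsg.Geo.omegaGL Q) := by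
  obtain ⟨Q, rfl⟩ : ∃ Q' : QuadraticForm F (Fin n → F), ⇑Q' = Q := ⟨H96.asForm hQ, rfl⟩
  have hN : Nondeg Q := H96.asForm_nondeg hQ
  have hnV : finrank F (Fin n → F) = n := Module.finrank_fin_fun F
  have hd : finrank F (D 0) = finrank F (D 1) := by rw [hD.finrank_eq, hD.finrank_eq]
  have hP : Polarised Q (D 0) (D 1) := by
    refine ⟨hts 0, hts 1, hD.indep.pairwiseDisjoint (by decide), codisjoint_iff.2 (eq_top_iff.2 ?_)⟩
    rw [← hD.iSup_eq_top]
    exact iSup_le (Fin.forall_fin_two.2 ⟨le_sup_left, le_sup_right⟩)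
  have hmem : ∀ x : O Q, H96.om Q x ∈ Cfsg.Geo.decompositionStabilizer D ↔
      ((∀ v ∈ D 0, (x : (Fin n → F) ≃ₗ[F] (Fin n → F)) v ∈ D 0) ∧
        ∀ v ∈ D 1, (x : (Fin n → F) ≃ₗ[F] (Fin n → F)) v ∈ D 1) ∨
      ((∀ v ∈ D 0, (x : (Fin n → F) ≃ₗ[F] (Fin n → F)) v ∈ D 1) ∧
        ∀ v ∈ D 1, (x : (Fin n → F) ≃ₗ[F] (Fin n → F)) v ∈ D 0) := by
    intro x
    constructor
    · rintro ⟨σ, hσ⟩
      have h0 : ∀ i, ∀ v ∈ D i, (x : (Fin n → F) ≃ₗ[F] (Fin n → F)) v ∈ D (σ i) := fun i v hv => by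
        rw [← hσ i, H96.om_toLin']
        exact ⟨v, hv, rfl⟩
      have hne : σ 1 ≠ σ 0 := fun e => absurd (σ.injective e) (by decide)
      rcases (by omega : (σ 0 = 0 ∧ σ 1 = 1) ∨ (σ 0 = 1 ∧ σ 1 = 0)) with ⟨e0, e1⟩ | ⟨e0, e1⟩
      · exact Or.inl ⟨fun v hv => (congrArg D e0) ▸ h0 0 v hv, fun v hv => (congrArg D e1) ▸ h0 1 v hv⟩
      · exact Or.inr ⟨fun v hv => (congrArg D e0) ▸ h0 0 v hv, fun v hv => (congrArg D e1) ▸ h0 1 v hv⟩
    · intro hx
      have map_eq : ∀ i j, (∀ v ∈ D i, (x : (Fin n → F) ≃ₗ[F] (Fin n → F)) v ∈ D j) →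
          (D i).map (Matrix.toLin' (H96.om Q x : Matrix (Fin n) (Fin n) F)) = D j := fun i j hij => by
        rw [H96.om_toLin']
        exact Submodule.eq_of_le_of_finrank_eq (by rintro _ ⟨v, hv, rfl⟩; exact hij v hv)
          (by rw [LinearEquiv.finrank_map_eq, hD.finrank_eq, hD.finrank_eq])
      rcases hx with ⟨a, b⟩ | ⟨a, b⟩
      · exact ⟨1, Fin.forall_fin_two.2 ⟨map_eq 0 0 a, map_eq 1 1 b⟩⟩
      · exact ⟨Equiv.swap 0 1, Fin.forall_fin_two.2 ⟨by simpa using map_eq 0 1 a, by simpa using map_eq 1 0 b⟩⟩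
  refine isMaximalIn_omega hN (by omega) _ ?_ fun X hX hg => ?_
  · -- a root element moving the first part out of both
    obtain ⟨a, ha, ha0⟩ := (Submodule.ne_bot_iff (D 0)).1 fun e => by
      have := hD.finrank_eq 0
      rw [e, finrank_bot] at this
      omega
    obtain ⟨a', ha', ha'a⟩ : ∃ a' ∈ D 0, a' ∉ Submodule.span F ({a} : Set (Fin n → F)) := by
      by_contra hc
      push Not at hc
      have := Submodule.finrank_mono (show D 0 ≤ Submodule.span F ({a} : Set (Fin n → F)) from hc)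
      rw [finrank_span_singleton ha0, hD.finrank_eq] at this
      omega
    obtain ⟨z, hz, hzs, hz1⟩ := hP.exists_coord hN (S := Submodule.span F {a}) (by simpa using ha) ha' ha'a
    have hQa : Q a = 0 := hts 0 a ha
    have haa' : QuadraticMap.polar Q a a' = 0 := TotSing.polar_eq (Q := Q) (hts 0) ha ha'
    refine ⟨sie a a' hQa haa', sie_mem_commutator hN (by omega) hQa haa', fun h => ?_⟩
    have hval : (sie a a' hQa haa' : (Fin n → F) ≃ₗ[F] (Fin n → F)) z = z + a := by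
      rw [sie_app, hts 0 a' ha', hz1, hzs a (Submodule.mem_span_singleton_self a)]
      simp
    rcases (hmem _).1 h with ⟨-, h1⟩ | ⟨-, h1⟩ <;> have h2 := h1 z hz <;> rw [hval] at h2
    · exact ha0 (hP.eq_zero ha ((Submodule.add_mem_iff_right _ hz).1 h2))
    · have hz0 : z = 0 := hP.eq_zero ((Submodule.add_mem_iff_left _ ha).1 h2) hz
      rw [hz0, QuadraticMap.polar_zero_right] at hz1
      exact zero_ne_one hz1
  · obtain ⟨σ, hσ, hσA, hσB⟩ := hP.exists_swap hN (by rw [hD.finrank_eq]; exact hke) hd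
    obtain ⟨g, hg, hgS⟩ := hg
    exact sieGroup_le_of_polarised hN (by omega) hP (by rw [hD.finrank_eq]; omega) hd
      (fun x hx hA hB => hX x hx ((hmem x).2 (Or.inl ⟨hA, hB⟩)))
      (hX σ hσ ((hmem σ).2 (Or.inr ⟨hσA, hσB⟩))) hσA hσB
      ⟨g, hg, fun h => hgS ((hmem g).2 h)⟩


end

section

open QuadraticMap Module Matrix Cfsg.Agent.H96 Cfsg.Agent.Orthogonal Cfsg.Agent.H98 Cfsg.Agent.H98.ExtField
  Cfsg.Agent.H98.TensorGL Cfsg.Agent.H98.TensorSp

theorem isMaximalIn_spTensor {F : Type*} [Field F] [Fintype F] {n : ℕ} (hn : 12 ≤ n) (heven : Even n) (Q : (Fin n → F) → F) (hQ : Cfsg.Geo.IsNondegenerateQuadraticForm Q) (hplus : Cfsg.Geo.IsPlusTypeOn Q ⊤) (n₁ n₂ : ℕ) (h12 : n₁ < n₂) (hex : ¬ (Fintype.card F = 2 ∧ n₁ = 2)) (e : (Fin n) ≃ Fin n₁ × Fin n₂) (P : Matrix.GeneralLinearGroup (Fin n) F) (f₁ : (Fin n₁ → F) → (Fin n₁ → F) → F) (f₂ : (Fin n₂ → F) → (Fin n₂ → F) → F) (hf₁ : Cfsg.Geo.IsSymplecticForm f₁) (hf₂ : Cfsg.Geo.IsSymplecticForm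 f₂) (hT : Cfsg.Geo.IsTensorFormStructure id (QuadraticMap.polar Q) f₁ f₂ e P) (hpure : (∀ (x₁ : Fin n₁ → F) (x₂ : Fin n₂ → F), Q (Matrix.mulVec (P : Matrix (Fin n) (Fin n) F) ((fun a : Fin n₁ × Fin n₂ => x₁ a.1 * x₂ a.2) ∘ e)) = 0)) : Cfsg.Geo.IsMaximalIn (Cfsg.Geo.omegaGL Q) (Cfsg.Geo.tensorProductSubgroup n₁ n₂ e P ⊓ Cfsg.Geo.omegaGL Q) := by
  classical
  obtain ⟨Q, rfl⟩ : ∃ Q' : QuadraticForm F (Fin n → F), ⇑Q' = Q := ⟨H96.asForm hQ, rfl⟩
  have hN : Nondeg Q := H96.asForm_nondeg hQ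
  obtain ⟨c, hc0, hpol⟩ := tensor_polar hf₂.bilinear hT
  let B₁ : (Fin n₁ → F) →ₗ[F] (Fin n₁ → F) →ₗ[F] F := c • LinearMap.mk₂ F f₁ hf₁.bilinear.add_left
    hf₁.bilinear.smul_left hf₁.bilinear.add_right (fun r v x => hf₁.bilinear.smul_right r v x)
  let B₂ : (Fin n₂ → F) →ₗ[F] (Fin n₂ → F) →ₗ[F] F := LinearMap.mk₂ F f₂ hf₂.bilinear.add_left
    hf₂.bilinear.smul_left hf₂.bilinear.add_right (fun r v x => hf₂.bilinear.smul_right r v x)
  let S : TensorSp.Pair F n₁ n₂ :=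
    { B₁ := B₁
      B₂ := B₂
      alt₁ := fun x => by
        show c * f₁ x x = 0
        rw [hf₁.alternating, mul_zero]
      nd₁ := fun x hx => by
        by_contra hne
        obtain ⟨y, hy⟩ := (hf₁.nondegenerate x hne).2
        exact mul_ne_zero hc0 hy (hx y)
      alt₂ := hf₂.alternating
      nd₂ := fun x hx => by
        by_contra hne
        obtain ⟨y, hy⟩ := (hf₂.nondegenerate x hne).2
        exact hy (hx y) }
  have heven' : ∀ {k : ℕ} (B : (Fin k → F) →ₗ[F] (Fin k → F) →ₗ[F] F), (∀ x, B x x = 0) →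
      (∀ x, (∀ y, B x y = 0) → x = 0) → Even k := by
    intro k B halt hnd
    have hskew : ∀ x y, B x y = -B y x := fun x y => by
      have h := halt (x + y)
      simp only [map_add, LinearMap.add_apply, halt, zero_add, add_zero] at h
      exact eq_neg_of_add_eq_zero_right h
    let G : Matrix (Fin k) (Fin k) F := fun i j => B (Pi.single i 1) (Pi.single j 1)
    have hG : IsUnit G := Matrix.mulVec_injective_iff_isUnit.1
      ((injective_iff_map_eq_zero (Matrix.mulVecLin G)).2 fun u hu => hnd u fun y => by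
        have h1 : ∀ i, B (Pi.single i 1) u = 0 := fun i => by
          rw [pi_eq_sum_univ' u, map_sum]
          refine Eq.trans ?_ (congrFun hu i)
          simp only [G, Matrix.mulVecLin_apply, Matrix.mulVec, dotProduct, map_smul, smul_eq_mul]
          exact Finset.sum_congr rfl fun j _ => mul_comm _ _
        rw [hskew, pi_eq_sum_univ' y, map_sum, LinearMap.sum_apply]
        simp [h1])
    simpa using Cfsg.Agent.Aschbacher.even_card_of_alternating (A := G) (fun i j => hskew _ _) (fun i => halt _) hG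
  have hcard : n = n₁ * n₂ := by simpa using Fintype.card_congr e
  have h1e := heven' S.B₁ S.alt₁ S.nd₁
  have h2e := heven' S.B₂ S.alt₂ S.nd₂
  have ha0 : 0 < n₁ := Nat.pos_of_ne_zero fun h => by rw [h, zero_mul] at hcard; omega
  have hab : n₁ + 2 ≤ n₂ := by obtain ⟨i, hi⟩ := h1e; obtain ⟨j, hj⟩ := h2e; omega
  have hb : 6 ≤ n₂ := by
    by_contra hb
    obtain ⟨j, hj⟩ := h2e
    have : n₁ * n₂ ≤ 2 * 4 := Nat.mul_le_mul (by omega) (by omega)
    omega
  have hq : 3 ≤ n₁ ∨ ∃ t : F, t ≠ 0 ∧ t ≠ 1 := by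
    rcases Nat.lt_or_ge n₁ 3 with ha | ha
    · right
      by_contra hcon
      push Not at hcon
      obtain ⟨i, hi⟩ := h1e
      refine hex ⟨le_antisymm ?_ Fintype.one_lt_card, by omega⟩
      have : (Finset.univ : Finset F) ⊆ {0, 1} := fun t _ => by
        rcases eq_or_ne t 0 with rfl | ht <;> simp_all
      exact (Finset.card_le_card this).trans Finset.card_le_two
    · exact Or.inl ha
  let L := tensorIso e P
  have hC : Coord S Q L := by
    refine ⟨fun x y => ?_, fun v u => ?_⟩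
    · rw [hpol x y, Pair.Bt, Finset.mul_sum]
      refine Finset.sum_congr rfl fun i _ => ?_
      rw [Finset.mul_sum]
      exact Finset.sum_congr rfl fun k _ => by
        show c * (_ * f₂ (x i) (y k)) = (c * f₁ _ _) * f₂ (x i) (y k)
        rw [← mul_assoc]
        rfl
    · exact hpure u v
  set φ := coordUnits Q L with hφ
  have hval : ∀ (x : O Q) m, (toUnits e P (H96.om Q x) : Module.End F (T F n₁ n₂)) m =
      (φ x : Module.End F (T F n₁ n₂)) m := fun x m => by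
    rw [toUnits_apply, hφ, coordUnits_apply, H96.om_mulVec]
  have hn5 : 5 ≤ finrank F (Fin n → F) := by rw [Module.finrank_fin_fun]; omega
  refine OrthMax.isMaximalIn_omega hN hn5 _ ?_ fun X hXS ⟨g, hgX, hgS⟩ => ?_
  · obtain ⟨v, w, -, hv, hw, -, hvw, -, -, -⟩ := exists_pairs S hb
    let cc : Fin n₁ → F := Pi.single ⟨0, ha0⟩ 1
    obtain ⟨z, hz⟩ : ∃ z, S.B₁ cc z = 1 := by
      obtain ⟨z, hz⟩ := not_forall.1 fun h0 => (show cc ≠ 0 by simp [cc]) (S.nd₁ cc h0)
      exact ⟨(S.B₁ cc z)⁻¹ • z, by rw [map_smul, smul_eq_mul, inv_mul_cancel₀ hz]⟩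
    obtain ⟨w', hw', hz'⟩ := exists_partner S (U := Submodule.span F {v}) (w := w) hw 1
    have hvw' : S.B₂ v w' = 0 := hz' v (Submodule.mem_span_singleton_self v)
    have h0 : polar Q (L (TensorGL.pure v cc)) (L (TensorGL.pure w cc)) = 0 := by
      rw [hC.polar_eq, S.Bt_pure_pure, hvw, zero_mul]
    refine ⟨sie _ _ (hC.pure_eq v cc) h0, OrthMax.sie_mem_commutator hN hn5 _ _, fun hS => ?_⟩
    obtain ⟨A, B, hAB⟩ := exists_tensor_action hS
    set x := TensorGL.pure w' z with hx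
    have h1 : (toUnits e P (H96.om Q (sie _ _ (hC.pure_eq v cc) h0)) : Module.End F (T F n₁ n₂)) x =
        TensorGL.pure ((B : Matrix (Fin n₂) (Fin n₂) F) *ᵥ w') ((A : Matrix (Fin n₁) (Fin n₁) F) *ᵥ z) := by
      rw [toUnits_apply, LinearEquiv.symm_apply_eq]
      refine (hAB x).trans (congrArg _ (funext fun i => ?_))
      simp only [hx, TensorGL.pure_apply, Matrix.mulVec_smul, smul_smul]
      rw [← Finset.sum_smul]
      rfl
    rw [hval, hφ, hC.sie_val, LinearMap.add_apply, Module.End.one_apply, Pair.sk, LinearMap.add_apply, te_apply,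
      te_apply, hx, ev_pure, ev_pure, hvw', hw', one_smul, zero_smul, Matrix.mulVec_zero, map_zero, add_zero,
      Pair.tau_mulVec, hz, one_smul] at h1
    set r := (A : Matrix (Fin n₁) (Fin n₁) F) *ᵥ z with hr
    set s := (B : Matrix (Fin n₂) (Fin n₂) F) *ᵥ w' with hs
    obtain ⟨ψ, hψv, hψ⟩ := Submodule.exists_le_ker_of_notMem (p := Submodule.span F {w'}) (v := v) fun hm => by
      obtain ⟨t, ht⟩ := Submodule.mem_span_singleton.1 hm
      have := S.comm₂ hvw
      rw [← ht, map_smul, hw', smul_eq_mul, mul_one] at this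
      rw [this, zero_smul] at ht
      exact hv ht.symm
    have h2 := congrArg (ev (S.B₂ w)) h1
    have h3 := congrArg (ev ψ) h1
    rw [map_add, ev_pure, ev_pure, ev_pure, hw', one_smul, S.comm₂ hvw, zero_smul, add_zero] at h2
    rw [map_add, ev_pure, ev_pure, ev_pure, LinearMap.mem_ker.1 (hψ (Submodule.mem_span_singleton_self w')),
      zero_smul, zero_add] at h3
    have hcc : cc = ((ψ v)⁻¹ * ψ s) • r := by rw [mul_smul, ← h3, inv_smul_smul₀ hψv]
    rw [hcc, h2] at hz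
    simp [S.alt₁] at hz
  have hmn : ∀ (Z : Module.End F (T F n₁ n₂)) (A : GL (Fin n₁) F) (B : GL (Fin n₂) F),
      MN ((sieGroup Q).map φ) Z → (∀ m, (1 + Z) m =
        fun i => ∑ k, (A : Matrix (Fin n₁) (Fin n₁) F) i k • ((B : Matrix (Fin n₂) (Fin n₂) F) *ᵥ m k)) →
      MN (X.map φ) Z := by
    rintro Z A B ⟨hZ, u, ⟨x, hx, rfl⟩, hu⟩ hact
    rw [SetLike.mem_coe, sieGroup_eq_commutator hN hn5] at hx
    exact ⟨hZ, _, ⟨x, hXS x hx (tensor_mem A B fun m => by rw [hval, hu]; exact hact m), rfl⟩, hu⟩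
  have hunit : ∀ {k : ℕ} (Y : Matrix (Fin k) (Fin k) F), Y * Y = 0 →
      ∃ A : GL (Fin k) F, (A : Matrix (Fin k) (Fin k) F) = 1 + Y := fun Y hY =>
    ⟨⟨1 + Y, 1 - Y, by rw [add_mul, one_mul, mul_sub, mul_one, hY]; abel,
      by rw [sub_mul, one_mul, mul_add, mul_one, hY]; abel⟩, rfl⟩
  have hG : Gen S (X.map φ) := by
    refine ⟨fun t v => ?_, fun t cv => ?_, ?_⟩
    · let Y : Matrix (Fin n₂) (Fin n₂) F := LinearMap.toMatrix' ((S.B₂ v).smulRight (t • v))
      have hY : ∀ w, Y *ᵥ w = S.B₂ v w • t • v := fun w => LinearMap.toMatrix'_mulVec _ w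
      obtain ⟨B, hB⟩ := hunit Y (Matrix.ext_iff_mulVec.2 fun w => by
        rw [← Matrix.mulVec_mulVec, hY, hY, map_smul, map_smul, S.alt₂, smul_zero, smul_zero, zero_smul,
          Matrix.zero_mulVec])
      refine hmn _ 1 B (hC.mn_right t v) fun m => funext fun i => ?_
      simp [hB, Matrix.add_mulVec, hY, te_apply, Matrix.one_apply, Finset.sum_add_distrib, Matrix.smul_mulVec,
        smul_smul, mul_comm]
    · have h0 : (t • S.tau cv cv) * (t • S.tau cv cv) = 0 := by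
        rw [smul_mul_assoc, Matrix.mul_smul, S.tau_mul_tau, S.alt₁, zero_smul, smul_zero, smul_zero]
      obtain ⟨A, hA⟩ := hunit _ h0
      refine hmn _ A 1 (hC.mn_left t cv) fun m => ?_
      rw [hA, ← lt_one, ← lt_add]
      simp [lt]
    · rintro _ ⟨x, -, rfl⟩ m m'
      exact hC.iso x m m'
  obtain ⟨v, hv, hnp⟩ : ∃ v : Fin n₂ → F, v ≠ 0 ∧
      NotPure ((φ g : Module.End F (T F n₁ n₂)) ∘ₗ TensorGL.pure v) := by
    by_contra hcon
    push Not at hcon
    obtain ⟨A, B, hAB⟩ := exists_of_pure ha0 (by omega) hcon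
    exact hgS (tensor_mem A B fun m => (hval g m).trans (hAB m))
  refine hC.sieGroup_le hN (by omega) ha0 hb hq hG (hG.hasL hb hab ⟨g, hgX, rfl⟩ hv hnp)


end

section

open QuadraticMap Module Cfsg.Agent.Orthogonal
open scoped Matrix

theorem isMaximalIn_unitary {F : Type*} [Field F] [Fintype F] {n : ℕ} (hn : 11 ≤ n) (Q : (Fin n → F) → F) (hQ : Cfsg.Geo.IsNondegenerateQuadraticForm Q) (K : Subalgebra F (Matrix (Fin n) (Fin n) F)) (hK : Cfsg.Geo.IsFieldSubalgebra 2 K) (hac : Cfsg.Geo.IsAdjointClosedFor (QuadraticMap.polar Q) K) (hnsa : ¬ Cfsg.Geo.IsSelfAdjointFor (QuadraticMap.polar Q) K) (hsc : ∀ k ∈ K, ∃ c : F, ∀ v : (Fin n → F), Q (Matrix.mulVec k v) = c * Q v) : Cfsg.Geo.IsMaximalIn (Cfsg.Geo.omegaGL Q) (Cfsg.Geo.subalgebraNormalizer K ⊓ Cfsg.Geo.omegaGL Q) := by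
  obtain ⟨Q, rfl⟩ : ∃ Q' : QuadraticForm F (Fin n → F), ⇑Q' = Q := ⟨H96.asForm hQ, rfl⟩
  have hN : Nondeg Q := H96.asForm_nondeg hQ
  have : Nonempty (Fin n) := ⟨⟨0, by omega⟩⟩
  obtain ⟨j, hjK, hj⟩ : ∃ j ∈ K, ∀ c : F, j ≠ c • (1 : Matrix (Fin n) (Fin n) F) := by
    by_contra hc
    push Not at hc
    refine hnsa fun k hk u v => ?_
    obtain ⟨c, rfl⟩ := hc k hk
    rw [Matrix.smul_mulVec, Matrix.smul_mulVec, Matrix.one_mulVec, Matrix.one_mulVec, polar_smul_left',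
      polar_smul_right']
  have hind : LinearIndependent F ![(⟨1, K.one_mem⟩ : K), ⟨j, hjK⟩] := by
    rw [LinearIndependent.pair_iff]
    intro s t hst
    have hst' : s • (1 : Matrix (Fin n) (Fin n) F) + t • j = 0 := congrArg Subtype.val hst
    rcases eq_or_ne t 0 with rfl | ht
    · rw [zero_smul, add_zero, smul_eq_zero] at hst'
      exact ⟨hst'.resolve_right one_ne_zero, rfl⟩
    · exact absurd (by rw [neg_div, neg_smul, div_eq_inv_mul, mul_smul, eq_neg_of_add_eq_zero_left hst', smul_neg,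
        inv_smul_smul₀ ht, neg_neg]) (hj (-s / t))
  have hspan : ∀ k, k ∈ K ↔ ∃ a b : F, k = a • (1 : Matrix (Fin n) (Fin n) F) + b • j := by
    refine fun k => ⟨fun hkK => ?_, ?_⟩
    · have htop := hind.span_eq_top_of_card_eq_finrank (by rw [Fintype.card_fin, hK.finrank_eq])
      have : (⟨k, hkK⟩ : K) ∈ Submodule.span F (Set.range ![(⟨1, K.one_mem⟩ : K), ⟨j, hjK⟩]) :=
        htop ▸ Submodule.mem_top
      rw [Matrix.range_cons_cons_empty, Submodule.mem_span_pair] at this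
      obtain ⟨a, b, hab⟩ := this
      exact ⟨a, b, (congrArg Subtype.val hab).symm⟩
    · rintro ⟨a, b, rfl⟩
      exact K.add_mem (K.smul_mem K.one_mem a) (K.smul_mem hjK b)
  have hzero : ∀ x ∈ K, ∀ y ∈ K, x * y = 0 → x = 0 ∨ y = 0 := fun x hx y hy hxy => by
    by_contra hc
    push Not at hc
    obtain ⟨z, hzK, hz⟩ := hK.inv x hx hc.1
    refine hc.2 ?_
    rw [← one_mul y, ← hz, hK.comm x hx z hzK, mul_assoc, hxy, mul_zero]
  obtain ⟨β, α, hjj⟩ := (hspan (j * j)).1 (K.mul_mem hjK hjK)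
  have hsq : ∀ x, j *ᵥ (j *ᵥ x) = α • (j *ᵥ x) + β • x := fun x => by
    rw [Matrix.mulVec_mulVec, hjj, Matrix.add_mulVec, Matrix.smul_mulVec, Matrix.smul_mulVec, Matrix.one_mulVec,
      add_comm]
  obtain ⟨k', hk'K, hk'⟩ := hac j hjK
  have hk'' : ∀ x y, polar Q (j *ᵥ x) y = polar Q x (k' *ᵥ y) := hk'
  have hkk : k' * k' = α • k' + β • (1 : Matrix (Fin n) (Fin n) F) := by
    refine Matrix.ext_iff_mulVec.2 fun y => hN.eq_of_polar fun x => ?_
    rw [polar_comm (⇑Q) _ x, polar_comm (⇑Q) _ x, ← Matrix.mulVec_mulVec, ← hk'', ← hk'', hsq, polar_add_left,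
      polar_smul_left', polar_smul_left', hk'', Matrix.add_mulVec, Matrix.smul_mulVec, Matrix.smul_mulVec,
      Matrix.one_mulVec, polar_add_right, polar_smul_right', polar_smul_right']
  have hk1 : k' = α • (1 : Matrix (Fin n) (Fin n) F) - j := by
    have hprod : (k' - j) * (k' + j - α • (1 : Matrix (Fin n) (Fin n) F)) = 0 := by
      rw [sub_mul, mul_sub, mul_sub, mul_add, mul_add, hK.comm j hjK k' hk'K, hkk, hjj, Matrix.mul_smul,
        Matrix.mul_smul, mul_one, mul_one]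
      module
    rcases hzero _ (K.sub_mem hk'K hjK) _ (K.sub_mem (K.add_mem hk'K hjK) (K.smul_mem K.one_mem α)) hprod with e | e
    · refine absurd ?_ hnsa
      intro k hk u v
      obtain ⟨a, b, rfl⟩ := (hspan k).1 hk
      simp only [Matrix.add_mulVec, Matrix.smul_mulVec, Matrix.one_mulVec, polar_add_left, polar_add_right,
        polar_smul_left', polar_smul_right', hk'', sub_eq_zero.1 e]
    · linear_combination (norm := module) e
  refine H98.HermOrth.isMaximalIn_herm Q hN (by rw [Module.finrank_fin_fun]; omega) K (j := j) (α := α) (β := β)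
    hspan ⟨hsq, fun c hc => ?_, fun x y => ?_, fun u hu => ?_⟩
  · have hprod : (j - c • (1 : Matrix (Fin n) (Fin n) F)) * (j + c • (1 : Matrix (Fin n) (Fin n) F) -
        α • (1 : Matrix (Fin n) (Fin n) F)) = 0 := by
      rw [sub_mul, mul_sub, mul_sub, mul_add, mul_add, hjj]
      simp only [Matrix.mul_smul, Matrix.smul_mul, mul_one, one_mul, smul_smul, hc]
      module
    rcases hzero _ (K.sub_mem hjK (K.smul_mem K.one_mem c)) _
      (K.sub_mem (K.add_mem hjK (K.smul_mem K.one_mem c)) (K.smul_mem K.one_mem α)) hprod with e | e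
    · exact hj c (sub_eq_zero.1 e)
    · exact hj (α - c) (by linear_combination (norm := module) e)
  · simp only [Matrix.mulVecLin_apply, hk'', hk1, Matrix.sub_mulVec, Matrix.smul_mulVec, Matrix.one_mulVec,
      polar_sub_right, polar_smul_right']
  · obtain ⟨c, hc⟩ := hsc j hjK
    obtain ⟨c', hc'⟩ := hsc (1 + j) (K.add_mem K.one_mem hjK)
    have h1 : Q (j *ᵥ u) = 0 := by rw [hc, hu, mul_zero]
    refine ⟨h1, ?_⟩
    have h2 := hc' u
    rw [Matrix.add_mulVec, Matrix.one_mulVec, map_add_polar, hu, h1, mul_zero, add_zero, zero_add] at h2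
    exact h2


end

end Cfsg.Agent.H12.OmegaTwelvePlus
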