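import Cfsg.Agent.H12.OmegaTwelvePlus.SubfieldMain
import Cfsg.Agent.H12.OmegaTwelvePlus.Transfer
import Cfsg.Agent.H69.OmegaTwelve.Nondeg
import Cfsg.Agent.H98.OrthMax.TotSing
import Cfsg.Agent.H98.OrthMax.Point
import Cfsg.Agent.H96.OrthDecTwo.Bridge
import Cfsg.Agent.H57.ExtOrth.Main
import Cfsg.Agent.H98.HermOrth.Main
import Cfsg.Agent.H98.OrthDecomp.Main

/-!
The geometric clauses for a twelve-dimensional space: nondegenerate subspaces, decompositions into blocks of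
dimension three, four and six, subfield groups.
-/

set_option autoImplicit false

namespace Cfsg.Agent.H12.OmegaTwelvePlus

open QuadraticMap Module Cfsg.Agent.Orthogonal Cfsg.Agent.H98.OrthMax

variable {F : Type*} [Field F] [Fintype F] {Q : QuadraticForm F (Fin 12 → F)}

theorem finrank_twelve : finrank F (Fin 12 → F) = 12 := Module.finrank_fin_fun F

/-- A subspace and its orthogonal have the same stabiliser in Ω. -/
theorem stabilizer_perp (hQ : Nondeg Q) (W : Submodule F (Fin 12 → F)) :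
    Cfsg.Geo.subspaceStabilizer (perp Q W) ⊓ Cfsg.Geo.omegaGL ⇑Q =
      Cfsg.Geo.subspaceStabilizer W ⊓ Cfsg.Geo.omegaGL ⇑Q := by
  have key : ∀ A : Submodule F (Fin 12 → F),
      Cfsg.Geo.subspaceStabilizer A ⊓ Cfsg.Geo.omegaGL ⇑Q ≤ Cfsg.Geo.subspaceStabilizer (perp Q A) := by
    intro A g hg
    obtain ⟨x, -, rfl⟩ := (H96.mem_omegaGL_iff Q g).1 hg.2
    exact (H96.mem_subspaceStabilizer_om Q _ x).2 fun v => stab_iff_of_le x
      (perp_invariant x fun w hw => ((H96.mem_subspaceStabilizer_om Q _ x).1 hg.1 w).1 hw) v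
  refine le_antisymm (le_inf ?_ inf_le_right) (le_inf (key W) inf_le_right)
  have h := key (perp Q W)
  rwa [hQ.perp_perp] at h

/-- A nondegenerate subspace with a strictly larger orthogonal of dimension at least six. -/
theorem isMaximalIn_nd_small (hQ : Nondeg Q) {W : Submodule F (Fin 12 → F)} (hW0 : W ≠ ⊥)
    (hW : Nondeg (restr Q W)) (hd : finrank F W ≤ 5)
    (hex : finrank F W = 2 → (∃ x ∈ W, x ≠ 0 ∧ Q x = 0) → 4 ≤ Fintype.card F) :
    Cfsg.Geo.IsMaximalIn (Cfsg.Geo.omegaGL ⇑Q) (Cfsg.Geo.subspaceStabilizer W ⊓ Cfsg.Geo.omegaGL ⇑Q) := by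
  have hr := hQ.finrank_add_perp W
  rw [finrank_twelve] at hr
  exact H69.OmegaTwelve.isMaximalIn_nondeg_six hQ (by rw [finrank_twelve]; omega) hW0 hW (by omega)
    (fun g => exists_not_mem_of_lt (by omega) g) hex

/-- Odd-dimensional nondegenerate subspaces other than halves. -/
theorem isMaximalIn_nd_odd (hQ : Nondeg Q) {W : Submodule F (Fin 12 → F)} (hodd : Odd (finrank F W))
    (hW : Nondeg (restr Q W)) :
    Cfsg.Geo.IsMaximalIn (Cfsg.Geo.omegaGL ⇑Q) (Cfsg.Geo.subspaceStabilizer W ⊓ Cfsg.Geo.omegaGL ⇑Q) := by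
  have hr := hQ.finrank_add_perp W
  rw [finrank_twelve] at hr
  obtain ⟨m, hm⟩ := hodd
  have hne : ∀ U : Submodule F (Fin 12 → F), 1 ≤ finrank F U → U ≠ ⊥ := fun U h e => by
    rw [e, finrank_bot] at h; omega
  rcases Nat.lt_or_ge (finrank F W) 6 with h | h
  · exact isMaximalIn_nd_small hQ (hne _ (by omega)) hW (by omega) fun h2 _ => by omega
  · rw [← stabilizer_perp hQ W]
    exact isMaximalIn_nd_small hQ (hne _ (by omega)) (hQ.nondeg_perp hW) (by omega) fun h2 _ => by omega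

theorem exists_unit {F : Type*} [Field F] [Fintype F] (h : 3 ≤ Fintype.card F) : ∃ s : F, s ≠ 0 ∧ s ≠ 1 := by
  classical
  by_contra hs
  push Not at hs
  have hsub : (Finset.univ : Finset F) ⊆ {0, 1} := fun s _ => by
    rcases eq_or_ne s 0 with rfl | hs0
    · simp
    · simp [hs s hs0]
  have h2 := (Finset.card_le_card hsub).trans Finset.card_le_two
  rw [Finset.card_univ] at h2
  omega

/-- Four blocks of dimension three. -/
theorem isMaximalIn_blocks_three (hQ : Nondeg Q) (hodd : Odd (Fintype.card F)) (h5 : 5 ≤ Fintype.card F)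
    {D : Fin 4 → Submodule F (Fin 12 → F)} (hD : Cfsg.Geo.IsOrthogonalMDecomposition (⇑Q) 3 D) :
    Cfsg.Geo.IsMaximalIn (Cfsg.Geo.omegaGL ⇑Q) (Cfsg.Geo.decompositionStabilizer D ⊓ Cfsg.Geo.omegaGL ⇑Q) := by
  classical
  have h2 : (2 : F) ≠ 0 := Ring.two_ne_zero fun h => by
    rw [Nat.odd_iff] at hodd
    rw [FiniteField.even_card_of_char_two h] at hodd
    omega
  refine H98.OrthDecomp.isMaximalIn_decomp (Q := Q) ⟨h2, le_rfl, by omega, fun _ => ?_, hD.decomp.decomp.finrank_eq,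
    fun i => nondeg_restr_of_nondegenerateOn (hD.decomp.nondegenerate i),
    fun i j hij x hx y hy => hD.decomp.orthogonal i j hij x hx y hy, fun i j => hD.isometric i j,
    hD.decomp.decomp.iSup_eq_top, hQ⟩
  by_contra hs
  push Not at hs
  have hsub : (Finset.univ : Finset F) ⊆ {0, 1, -1} := fun s _ => by
    rcases eq_or_ne s 0 with rfl | hs0
    · simp
    · rcases sq_eq_one_iff.1 (hs s hs0) with e | e <;> simp [e]
  have hc := (Finset.card_le_card hsub).trans Finset.card_le_three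
  rw [Finset.card_univ] at hc
  omega

/-- Three blocks of dimension four. -/
theorem isMaximalIn_blocks_four (hQ : Nondeg Q) (h3 : 3 ≤ Fintype.card F)
    {D : Fin 3 → Submodule F (Fin 12 → F)} (hD : Cfsg.Geo.IsOrthogonalMDecomposition (⇑Q) 4 D) :
    Cfsg.Geo.IsMaximalIn (Cfsg.Geo.omegaGL ⇑Q) (Cfsg.Geo.decompositionStabilizer D ⊓ Cfsg.Geo.omegaGL ⇑Q) := by
  have hnd := fun i => nondeg_restr_of_nondegenerateOn (hD.decomp.nondegenerate i)
  have horth := fun i j (hij : i ≠ j) x hx y hy => hD.decomp.orthogonal i j hij x hx y hy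
  by_cases h2 : (2 : F) = 0
  · exact H96.OrthDecTwo.isMaximalIn_decomp (Q := Q) ⟨le_rfl, by omega, Or.inr (Or.inl h2),
      fun _ _ => Or.inl (exists_unit h3), hD.decomp.decomp.finrank_eq, hnd, horth, fun _ i j => hD.isometric i j,
      hD.decomp.decomp.iSup_eq_top, hQ⟩
  · exact H98.OrthDecomp.isMaximalIn_decomp (Q := Q) ⟨h2, by omega, le_rfl, fun h => absurd h (by omega),
      hD.decomp.decomp.finrank_eq, hnd, horth, fun i j => hD.isometric i j, hD.decomp.decomp.iSup_eq_top, hQ⟩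

/-- Two blocks of dimension six. -/
theorem isMaximalIn_blocks_six (hQ : Nondeg Q)
    {D : Fin 2 → Submodule F (Fin 12 → F)} (hD : Cfsg.Geo.IsOrthogonalMDecomposition (⇑Q) 6 D) :
    Cfsg.Geo.IsMaximalIn (Cfsg.Geo.omegaGL ⇑Q) (Cfsg.Geo.decompositionStabilizer D ⊓ Cfsg.Geo.omegaGL ⇑Q) :=
  H96.OrthDecTwo.isMaximalIn_decomp (Q := Q) ⟨by omega, le_rfl, Or.inl le_rfl, fun h => absurd h (by omega),
    hD.decomp.decomp.finrank_eq, fun i => nondeg_restr_of_nondegenerateOn (hD.decomp.nondegenerate i),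
    fun i j hij x hx y hy => hD.decomp.orthogonal i j hij x hx y hy, fun h => absurd h (by omega),
    hD.decomp.decomp.iSup_eq_top, hQ⟩

/-- Subfield groups, for the form up to a scalar. -/
theorem isMaximalIn_subfield_scaled (hQ : Nondeg Q) (F₀ : Subfield F) (r : ℕ)
    (P : Matrix.GeneralLinearGroup (Fin 12) F) (ζ : F) (hr : r.Prime) (hcard : Fintype.card F = Nat.card F₀ ^ r)
    (hζ : ζ ≠ 0) (hP : Cfsg.Geo.IsQuadFormRationalStructure (fun v : Fin 12 → F => ζ * Q v) F₀ P) :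
    Cfsg.Geo.IsMaximalIn (Cfsg.Geo.omegaGL ⇑Q) (Cfsg.Geo.subfieldSubgroup F₀ P ⊓ Cfsg.Geo.omegaGL ⇑Q) := by
  have hN' : Nondeg (ζ • Q) := fun x hx => hQ x fun y => by
    have := hx y
    rw [show ⇑(ζ • Q) = ζ • ⇑Q from rfl, QuadraticMap.polar_smul, smul_eq_mul] at this
    exact (mul_eq_zero.1 this).resolve_left hζ
  have hiso : Cfsg.isometryGroup F ⇑Q = Cfsg.isometryGroup F ⇑(ζ • Q) := by
    ext g
    simp [Cfsg.Agent.Orthogonal.mem_isometryGroup_iff, hζ]
  have hΩ : Cfsg.Geo.omegaGL ⇑Q = Cfsg.Geo.omegaGL ⇑(ζ • Q) := by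
    unfold Cfsg.Geo.omegaGL Cfsg.Omega
    rw [hiso]
  rw [hΩ]
  exact isMaximalIn_subfield_twelve' F₀ P (ζ • Q) hN' (by simp) r hr hcard hP

end Cfsg.Agent.H12.OmegaTwelvePlus
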