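import Cfsg.Agent.H69.OmegaTwelve.SubfieldOdd

/-!
Rational involutions negating a four-space of either type: such involutions are not conjugate by an element
preserving the rational structure up to a scalar.
-/

set_option autoImplicit false

namespace Cfsg.Agent.H12.OmegaTwelvePlus

open QuadraticMap Module Cfsg.Agent.Orthogonal Cfsg.Agent.H98.SubfieldOrth
open Cfsg.Agent.H98.SubfieldOrth.RatStr

variable {F V : Type*} [Field F] [AddCommGroup V] [Module F V] {Q : QuadraticForm F V} {F₀ : Subfield F}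

/-- A hyperbolic pair and two further orthogonal rational vectors of values `1` and `-ν`. -/
structure Quad (R : RatStr Q F₀) (ν : F₀) where
  e : R.V₀
  f : R.V₀
  c : R.V₀
  d : R.V₀
  qe : Q (e : V) = 0
  qf : Q (f : V) = 0
  ef : polar Q (e : V) (f : V) = 1
  qc : Q (c : V) = 1
  qd : Q (d : V) = -(ν : F)
  ec : polar Q (e : V) (c : V) = 0
  ed : polar Q (e : V) (d : V) = 0
  fc : polar Q (f : V) (c : V) = 0
  fd : polar Q (f : V) (d : V) = 0
  cd : polar Q (c : V) (d : V) = 0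

theorem exists_quad [Finite F] [FiniteDimensional F V] {R : RatStr Q F₀} (hn : 8 ≤ finrank F V) (ν : F₀) :
    Nonempty (Quad R ν) := by
  have := R.finiteDimensional
  have hd0 : finrank F₀ R.V₀ = finrank F V := R.finrank_eq
  obtain ⟨e, -, f, -, he, hf, hef, -, C, -, hC, hdC, hCef⟩ :=
    exists_hyp R.nondeg (nondeg_restr_top R.nondeg) (by rw [finrank_top]; omega)
  rw [finrank_top] at hdC
  obtain ⟨x, hxC, y, hyC, hx, hy, hxy, -, C', hC'le, hC', hdC', hC'xy⟩ := exists_hyp R.nondeg hC (by omega)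
  obtain ⟨⟨d, hdC2⟩, hd⟩ := hC'.exists_value (by omega) (-ν)
  change R.Q₀ d = -ν at hd
  have hc : R.Q₀ (x + y) = 1 := by rw [map_add_polar, hx, hy, hxy]; ring
  exact ⟨⟨e, f, x + y, d, R.sing he, R.sing hf, R.one hef, by rw [← R.coe, hc, OneMemClass.coe_one],
    by rw [← R.coe, hd]; rfl, R.orth (hCef _ (C.add_mem hxC hyC)).1, R.orth (hCef _ (hC'le hdC2)).1,
    R.orth (hCef _ (C.add_mem hxC hyC)).2, R.orth (hCef _ (hC'le hdC2)).2,
    R.orth (by rw [polar_add_left, (hC'xy d hdC2).1, (hC'xy d hdC2).2, add_zero])⟩⟩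

namespace Quad

variable {R : RatStr Q F₀} {ν : F₀} (P : Quad R ν)

/-- The involution negating the four vectors. -/
noncomputable def neg : O Q :=
  rO Q (((P.e + P.f : R.V₀) : V)) * rO Q (((P.e - P.f : R.V₀) : V)) * (rO Q (P.c : V) * rO Q (P.d : V))

theorem ratEl : R.RatEl P.neg := ((RatEl.rO _).mul (RatEl.rO _)).mul ((RatEl.rO _).mul (RatEl.rO _))

theorem q_sum : Q (((P.e + P.f : R.V₀) : V)) = 1 := by
  rw [Submodule.coe_add, map_add_polar, P.qe, P.qf, P.ef]; ring

theorem q_diff : Q (((P.e - P.f : R.V₀) : V)) = -1 := by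
  rw [Submodule.coe_sub, qmap_sub, P.qe, P.qf, P.ef]; ring

theorem app (hν : ν ≠ 0) (v : V) : (P.neg : V ≃ₗ[F] V) v = v - (2 * polar Q (P.f : V) v) • (P.e : V)
    - (2 * polar Q (P.e : V) v) • (P.f : V) - polar Q (P.c : V) v • (P.c : V)
    + ((ν : F)⁻¹ * polar Q (P.d : V) v) • (P.d : V) := by
  have hfe : polar Q (P.f : V) (P.e : V) = 1 := by rw [polar_comm]; exact P.ef
  have hν' : (ν : F) ≠ 0 := fun h => hν (Subtype.ext h)
  rw [neg, Subgroup.coe_mul, Subgroup.coe_mul, Subgroup.coe_mul, mul_app, mul_app, mul_app, rO_app Q (P.d : V),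
    rO_app Q (P.c : V), rO_app Q (((P.e - P.f : R.V₀) : V)), rO_app Q (((P.e + P.f : R.V₀) : V)),
    P.q_sum, P.q_diff, P.qc, P.qd]
  simp only [Submodule.coe_add, Submodule.coe_sub, polar_sub_right, polar_smul_right', polar_add_left,
    polar_sub_left, polar_add_right, polar_self', P.qe, P.qf, P.ef, hfe, P.cd, P.ec, P.ed, P.fc, P.fd]
  match_scalars <;> field_simp <;> ring

theorem app_e (hν : ν ≠ 0) : (P.neg : V ≃ₗ[F] V) (P.e : V) = -(P.e : V) := by
  rw [P.app hν, polar_comm (⇑Q) (P.c : V) (P.e : V), polar_comm (⇑Q) (P.d : V) (P.e : V),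
    polar_comm (⇑Q) (P.f : V) (P.e : V), P.ef, P.ec, P.ed, polar_self', P.qe]
  module

theorem app_f (hν : ν ≠ 0) : (P.neg : V ≃ₗ[F] V) (P.f : V) = -(P.f : V) := by
  rw [P.app hν, polar_comm (⇑Q) (P.c : V) (P.f : V), polar_comm (⇑Q) (P.d : V) (P.f : V),
    P.ef, P.fc, P.fd, polar_self', P.qf]
  module

theorem app_c (hν : ν ≠ 0) : (P.neg : V ≃ₗ[F] V) (P.c : V) = -(P.c : V) := by
  rw [P.app hν, polar_comm (⇑Q) (P.d : V) (P.c : V), P.ec, P.fc, P.cd, polar_self', P.qc]
  module

theorem app_d (hν : ν ≠ 0) : (P.neg : V ≃ₗ[F] V) (P.d : V) = -(P.d : V) := by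
  have hν' : (ν : F) ≠ 0 := fun h => hν (Subtype.ext h)
  rw [P.app hν, P.ed, P.fd, P.cd, polar_self', P.qd,
    show (ν : F)⁻¹ * (2 * -(ν : F)) = -2 by field_simp]
  module

theorem invol (hν : ν ≠ 0) : P.neg * P.neg = 1 := O.ext_app fun v => by
  rw [Subgroup.coe_mul, mul_app, OneMemClass.coe_one, one_app]
  conv_lhs => rw [P.app hν v]
  simp only [map_sub, map_add, map_smul, P.app_e hν, P.app_f hν, P.app_c hν, P.app_d hν]
  rw [P.app hν v]
  module

/-- The negated space: coordinates of its vectors. -/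
theorem coord (hν : ν ≠ 0) (h2 : (2 : F) ≠ 0) {p : V} (hp : p ∈ eig P.neg (-1 : F)) :
    p = polar Q (P.f : V) p • (P.e : V) + polar Q (P.e : V) p • (P.f : V)
      + (2⁻¹ * polar Q (P.c : V) p) • (P.c : V) - (2⁻¹ * (ν : F)⁻¹ * polar Q (P.d : V) p) • (P.d : V) := by
  have h := mem_eig.1 hp
  rw [P.app hν, neg_one_smul] at h
  refine (smul_right_injective V h2) ?_
  show (2 : F) • p = (2 : F) • _
  have h22 : (2 : F) * 2⁻¹ = 1 := mul_inv_cancel₀ h2
  simp only [smul_add, smul_sub, smul_smul, ← mul_assoc, h22, one_mul]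
  rw [← sub_eq_zero] at h ⊢
  rw [← h]
  module

theorem finrank_eig [FiniteDimensional F V] (hν : ν ≠ 0) (h2 : (2 : F) ≠ 0) :
    finrank F (eig P.neg (-1 : F)) = 4 := by
  have hν' : (ν : F) ≠ 0 := fun h => hν (Subtype.ext h)
  have hfe : polar Q (P.f : V) (P.e : V) = 1 := by rw [polar_comm]; exact P.ef
  let b : Fin 4 → V := ![(P.e : V), (P.f : V), (P.c : V), (P.d : V)]
  have hli : LinearIndependent F b := by
    rw [Fintype.linearIndependent_iff]
    intro g hg
    simp only [Fin.sum_univ_four, b, Matrix.cons_val_zero, Matrix.cons_val_one, Matrix.cons_val] at hg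
    have he := congrArg (polar Q (P.e : V)) hg
    have hf := congrArg (polar Q (P.f : V)) hg
    have hc := congrArg (polar Q (P.c : V)) hg
    have hd := congrArg (polar Q (P.d : V)) hg
    simp only [polar_add_right, polar_smul_right', polar_zero_right, polar_self', P.qe, P.qf, P.qc, P.qd, P.ef,
      hfe, P.ec, P.ed, P.fc, P.fd, P.cd, polar_comm (⇑Q) (P.c : V) (P.e : V), polar_comm (⇑Q) (P.c : V) (P.f : V),
      polar_comm (⇑Q) (P.d : V) (P.e : V), polar_comm (⇑Q) (P.d : V) (P.f : V),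
      polar_comm (⇑Q) (P.d : V) (P.c : V), mul_zero, add_zero, zero_add, mul_one] at he hf hc hd
    intro i
    fin_cases i
    · exact hf
    · exact he
    · exact (mul_eq_zero.1 hc).resolve_right h2
    · exact (mul_eq_zero.1 hd).resolve_right (mul_ne_zero h2 (neg_ne_zero.2 hν'))
  have hr : Submodule.span F (Set.range b) = eig P.neg (-1 : F) := by
    refine le_antisymm ?_ fun p hp => ?_
    · rw [Submodule.span_le]
      rintro _ ⟨i, rfl⟩
      rw [SetLike.mem_coe, mem_eig, neg_one_smul]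
      fin_cases i
      · exact P.app_e hν
      · exact P.app_f hν
      · exact P.app_c hν
      · exact P.app_d hν
    · rw [P.coord hν h2 hp]
      have hm : ∀ i, b i ∈ Submodule.span F (Set.range b) := fun i => Submodule.subset_span ⟨i, rfl⟩
      exact Submodule.sub_mem _ (Submodule.add_mem _ (Submodule.add_mem _ (Submodule.smul_mem _ _ (hm 0))
        (Submodule.smul_mem _ _ (hm 1))) (Submodule.smul_mem _ _ (hm 2))) (Submodule.smul_mem _ _ (hm 3))
  rw [← hr, finrank_span_eq_card hli, Fintype.card_fin]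

/-- A singular rational vector of the negated space of minus type, orthogonal to `f`, is a multiple of `f`. -/
theorem line (hν : ¬ IsSquare ν) (h2 : (2 : F) ≠ 0) {p : R.V₀} (hp : (p : V) ∈ eig P.neg (-1 : F))
    (hQ : Q (p : V) = 0) (hf : polar Q (P.f : V) p = 0) : (p : V) = polar Q (P.e : V) (p : V) • (P.f : V) := by
  have hν0 : ν ≠ 0 := fun h => hν ⟨0, by rw [h, mul_zero]⟩
  have hν' : (ν : F) ≠ 0 := fun h => hν0 (Subtype.ext h)
  have h := P.coord hν0 h2 hp
  rw [hf, zero_smul, zero_add] at h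
  set β := polar Q (P.e : V) (p : V)
  set γ : F₀ := ⟨polar Q (P.c : V) (p : V), R.polar_mem _ _⟩ with hγ
  set δ : F₀ := ⟨polar Q (P.d : V) (p : V), R.polar_mem _ _⟩ with hδ
  rw [show polar Q (P.c : V) (p : V) = (γ : F) from rfl, show polar Q (P.d : V) (p : V) = (δ : F) from rfl] at h
  have hq := hQ
  rw [h] at hq
  simp only [qmap_sub, map_add_polar, qmap_smul, polar_add_left, polar_smul_left', polar_smul_right', P.qf,
    P.qc, P.qd, P.fc, P.fd, P.cd, mul_zero, add_zero, zero_add, sub_zero] at hq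
  have h1 : (ν : F) * ((γ : F) * γ) = (δ : F) * δ := by
    field_simp at hq
    linear_combination hq
  have h1' : ν * (γ * γ) = δ * δ := Subtype.ext h1
  have hγ0 : γ = 0 := by
    by_contra hne
    exact hν ⟨δ / γ, by field_simp; linear_combination h1'⟩
  have hδ0 : δ = 0 := by
    rw [hγ0, mul_zero, mul_zero] at h1'
    exact mul_self_eq_zero.1 h1'.symm
  rw [hγ0, hδ0, ZeroMemClass.coe_zero] at h
  simpa using h

end Quad

/-- Negations of four-spaces of different types are not conjugate by a stable element. -/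
theorem not_conj_quad {R : RatStr Q F₀} {ν : F₀} (hν : ¬ IsSquare ν) (h2 : (2 : F) ≠ 0) (P : Quad R 1) (N : Quad R ν)
    {k : O Q} (hk : R.Stab k) (h : k * P.neg = N.neg * k) : False := by
  obtain ⟨a, ha, hka⟩ := hk
  set x : V := (P.e : V) with hx
  set x' : V := ((P.c + P.d : R.V₀) : V) with hx'
  have hxQ : Q x = 0 := P.qe
  have hx'Q : Q x' = 0 := by
    rw [hx', Submodule.coe_add, map_add_polar, P.qc, P.qd, P.cd, OneMemClass.coe_one]; ring
  have hxx' : polar Q x x' = 0 := by rw [hx, hx', Submodule.coe_add, polar_add_right, P.ec, P.ed, add_zero]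
  have hxe : (P.neg : V ≃ₗ[F] V) x = (-1 : F) • x := by rw [neg_one_smul]; exact P.app_e one_ne_zero
  have hx'e : (P.neg : V ≃ₗ[F] V) x' = (-1 : F) • x' := by
    rw [neg_one_smul, hx', Submodule.coe_add, map_add, P.app_c one_ne_zero, P.app_d one_ne_zero, neg_add]
  obtain ⟨p, hp⟩ : ∃ p : R.V₀, (p : V) = a⁻¹ • (k : V ≃ₗ[F] V) x := ⟨⟨_, hka x P.e.2⟩, rfl⟩
  obtain ⟨p', hp'⟩ : ∃ p : R.V₀, (p : V) = a⁻¹ • (k : V ≃ₗ[F] V) x' := ⟨⟨_, hka x' (P.c + P.d).2⟩, rfl⟩
  have hpE : ∀ y : V, (P.neg : V ≃ₗ[F] V) y = (-1 : F) • y →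
      a⁻¹ • (k : V ≃ₗ[F] V) y ∈ eig N.neg (-1 : F) := fun y hy => by
    refine Submodule.smul_mem _ _ (mem_eig.2 ?_)
    rw [app_conj h, hy, map_smul]
  have hqp : Q (p : V) = 0 := by rw [hp, qmap_smul, O.map_app, hxQ, mul_zero]
  have hqp' : Q (p' : V) = 0 := by rw [hp', qmap_smul, O.map_app, hx'Q, mul_zero]
  have hpp' : polar Q (p : V) (p' : V) = 0 := by
    rw [hp, hp', polar_smul_left', polar_smul_right', O.polar_app, hxx', mul_zero, mul_zero]
  -- dependences between the images are dependences between the vectors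
  have hdep : ∀ s s' : F, s • (p : V) = s' • (p' : V) → s = 0 ∧ s' = 0 := fun s s' e => by
    have e' : s • x = s' • x' := by
      have h1 : a⁻¹ • (k : V ≃ₗ[F] V) (s • x) = a⁻¹ • (k : V ≃ₗ[F] V) (s' • x') := by
        rw [map_smul, map_smul, smul_comm a⁻¹ s, smul_comm a⁻¹ s', ← hp, ← hp']; exact e
      exact (k : V ≃ₗ[F] V).injective (smul_right_injective V (inv_ne_zero ha) h1)
    have h1 := congrArg (polar Q (P.f : V)) e'
    rw [hx, hx', polar_smul_right', polar_smul_right', Submodule.coe_add, polar_add_right, P.fc, P.fd,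
      polar_comm, P.ef, mul_one, add_zero, mul_zero] at h1
    have h3 := congrArg (polar Q (P.c : V)) e'
    rw [h1, zero_smul, polar_zero_right, hx', polar_smul_right', Submodule.coe_add, polar_add_right, polar_self',
      P.qc, P.cd, add_zero, mul_one, eq_comm, mul_eq_zero] at h3
    exact ⟨h1, h3.resolve_right h2⟩
  set α : F₀ := ⟨polar Q (N.f : V) (p : V), R.polar_mem _ _⟩ with hα
  set α' : F₀ := ⟨polar Q (N.f : V) (p' : V), R.polar_mem _ _⟩ with hα'
  set q : R.V₀ := α' • p - α • p' with hq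
  have hqV : (q : V) = (α' : F) • (p : V) - (α : F) • (p' : V) := by
    rw [hq, Submodule.coe_sub, R.coe_smul, R.coe_smul]
  have hqE : (q : V) ∈ eig N.neg (-1 : F) := by
    rw [hqV]
    exact Submodule.sub_mem _ (Submodule.smul_mem _ _ (hp ▸ hpE x hxe)) (Submodule.smul_mem _ _ (hp' ▸ hpE x' hx'e))
  have hqQ : Q (q : V) = 0 := by
    rw [hqV, qmap_sub, qmap_smul, qmap_smul, polar_smul_left', polar_smul_right', hqp, hqp', hpp']; ring
  have hqf : polar Q (N.f : V) (q : V) = 0 := by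
    rw [hqV, polar_sub_right, polar_smul_right', polar_smul_right', show polar Q (N.f : V) (p : V) = α from rfl,
      show polar Q (N.f : V) (p' : V) = α' from rfl]
    ring
  have hql := N.line hν h2 hqE hqQ hqf
  have hzero : (q : V) = 0 := by
    by_contra hne
    have hb : polar Q (N.e : V) (q : V) ≠ 0 := fun h0 => hne (by rw [hql, h0, zero_smul])
    have hα0 : (α : F) = 0 := by
      have h1 : polar Q (q : V) (p : V) = 0 := by
        rw [hqV, polar_sub_left, polar_smul_left', polar_smul_left', polar_self', hqp, polar_comm, hpp']; ring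
      rw [hql, polar_smul_left', mul_eq_zero] at h1
      exact h1.resolve_left hb
    have hα'0 : (α' : F) = 0 := by
      have h1 : polar Q (q : V) (p' : V) = 0 := by
        rw [hqV, polar_sub_left, polar_smul_left', polar_smul_left', polar_self', hqp', hpp']; ring
      rw [hql, polar_smul_left', mul_eq_zero] at h1
      exact h1.resolve_left hb
    exact hne (by rw [hqV, hα0, hα'0, zero_smul, zero_smul, sub_zero])
  rw [hqV, sub_eq_zero] at hzero
  obtain ⟨hα'0, hα0⟩ := hdep _ _ hzero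
  have e1 := N.line hν h2 (hp ▸ hpE x hxe) hqp hα0
  have e2 := N.line hν h2 (hp' ▸ hpE x' hx'e) hqp' hα'0
  obtain ⟨-, hb⟩ := hdep (polar Q (N.e : V) (p' : V)) (polar Q (N.e : V) (p : V)) (by
    calc polar Q (N.e : V) (p' : V) • (p : V)
        = polar Q (N.e : V) (p' : V) • polar Q (N.e : V) (p : V) • (N.f : V) := congrArg _ e1
      _ = polar Q (N.e : V) (p : V) • polar Q (N.e : V) (p' : V) • (N.f : V) := smul_comm ..
      _ = polar Q (N.e : V) (p : V) • (p' : V) := congrArg _ e2.symm)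
  have hp0 : (p : V) = 0 := by rw [e1, hb, zero_smul]
  obtain ⟨h10, -⟩ := hdep 1 0 (by rw [one_smul, zero_smul, hp0])
  exact one_ne_zero h10

/-- Reflections in vectors with values in one square class multiply into Ω. -/
theorem rO_mul_mem_of_sq (hQ : Nondeg Q) [FiniteDimensional F V] {a b : V} {t : F} (ha : Q a ≠ 0) (ht : t ≠ 0)
    (h : Q b = t * t * Q a) : rO Q a * rO Q b ∈ commutator (O Q) := by
  rw [← rO_smul (Q := Q) (inv_ne_zero ht) b]
  refine H98.OrthMax.rO_mul_mem hQ ha ?_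
  rw [qmap_smul, h]; field_simp

theorem Quad.mem_commutator [FiniteDimensional F V] {R : RatStr Q F₀} {ν : F₀} (P : Quad R ν) (hQ : Nondeg Q)
    (hν : ν ≠ 0) (hsq : ∀ a : F₀, IsSquare (a : F)) : P.neg ∈ commutator (O Q) := by
  obtain ⟨i, hi⟩ := hsq (-1)
  obtain ⟨j, hj⟩ := hsq (-ν)
  rw [Subfield.coe_neg, OneMemClass.coe_one] at hi
  rw [Subfield.coe_neg] at hj
  have hi0 : i ≠ 0 := fun e => by rw [e, mul_zero, neg_eq_zero] at hi; exact one_ne_zero hi
  have hj0 : j ≠ 0 := fun e => by rw [e, mul_zero, neg_eq_zero] at hj; exact hν (Subtype.ext hj)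
  exact mul_mem (rO_mul_mem_of_sq hQ (by rw [P.q_sum]; exact one_ne_zero) hi0 (by rw [P.q_sum, P.q_diff, mul_one, hi]))
    (rO_mul_mem_of_sq hQ (by rw [P.qc]; exact one_ne_zero) hj0 (by rw [P.qc, P.qd, mul_one, hj]))

end Cfsg.Agent.H12.OmegaTwelvePlus
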