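import Cfsg.Agent.H12.OmegaTwelvePlus.Four

/-!
Odd characteristic, dimension twelve, any prime index: an overgroup element not preserving the rational
structure yields a new parameter. Two negations of dimensions four and eight avoid equal eigenspaces, so
that stable involutions are rational.
-/

set_option autoImplicit false

namespace Cfsg.Agent.H12.OmegaTwelvePlus

open QuadraticMap Module Cfsg.Agent.Orthogonal Cfsg.Agent.H98.SubfieldOrth
open Cfsg.Agent.H98.SubfieldOrth.RatStr Cfsg.Agent.H69.OmegaTwelve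

variable {F V : Type*} [Field F] [Finite F] [AddCommGroup V] [Module F V] [FiniteDimensional F V]
  {Q : QuadraticForm F V} {F₀ : Subfield F}
  {R : RatStr Q F₀} {X : Subgroup (O Q)} (hQ : Nondeg Q) (h2 : (2 : F) ≠ 0) (hn : finrank F V = 12)
  (hX : R.Over X) (hT : R.NoNew X)
include hQ h2 hn hX hT

/-- One round: a further pair of conjugate rational involutions. -/
theorem round_twelve' {g z₀' z₀ : O Q} (hg : g ∈ X) (hR₀' : R.RatEl z₀') (hi₀' : z₀' * z₀' = 1)
    (hR₀ : R.RatEl z₀) (hi₀ : z₀ * z₀ = 1) (hconj : g * z₀' = z₀ * g)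
    {r t : O Q} (hrc : r ∈ commutator (O Q)) (hrR : R.RatEl r) (hrr : r * r = 1)
    (edr₀ : finrank F (eig r (-1 : F)) = 8) (hrf : ∀ v ∈ eig z₀' (-1 : F), (r : V ≃ₗ[F] V) v = v)
    (htc : t ∈ commutator (O Q)) (htR : R.RatEl t) (htt : t * t = 1)
    (edt : finrank F (eig t (-1 : F)) = 4) (htf : ∀ v ∈ eig z₀ (-1 : F), (t : V ≃ₗ[F] V) v = v) :
    ∃ z' z : O Q, R.RatEl z' ∧ z' * z' = 1 ∧ R.RatEl z ∧ z * z = 1 ∧ g * z' = z * g ∧
      Commute z z₀ ∧ Commute z' z₀' ∧ (∀ v ∈ eig z₀ (-1 : F), (z : V ≃ₗ[F] V) v = v) ∧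
      Even (finrank F (eig z' (-1 : F))) ∧ 1 ≤ finrank F (eig z' (-1 : F)) ∧
      (2 ≤ finrank F (eig z₀' (-1 : F)) → finrank F (eig z' (-1 : F)) ≤ 8) ∧
      (finrank F (eig z' (-1 : F)) = 12 →
        (∀ v, (z : V ≃ₗ[F] V) v = -v) ∧ ∃ h ∈ X, h * r = z * t * h) := by
  have := R.finiteDimensional
  have hO : Finite (O Q) := finite_O
  have hsum' := finrank_eig_add h2 hi₀'
  have hsum := finrank_eig_add h2 hi₀
  have hd₀ : finrank F (eig z₀ (-1 : F)) = finrank F (eig z₀' (-1 : F)) := (finrank_eig_of_conj hconj _).symm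
  have hrX : r ∈ X := hX.rat r hrc hrR
  have htX : t ∈ X := hX.rat t htc htR
  set r' := g * r * g⁻¹ with hr'
  have hr'X : r' ∈ X := mul_mem (mul_mem hg hrX) (inv_mem hg)
  have hr'r' : r' * r' = 1 := by
    rw [hr', show g * r * g⁻¹ * (g * r * g⁻¹) = g * (r * r) * g⁻¹ by group, hrr, mul_one, mul_inv_cancel]
  have hr'f : ∀ v ∈ eig z₀ (-1 : F), (r' : V ≃ₗ[F] V) v = v := by
    intro v hv
    have hv' : v ∈ eig (g * z₀' * g⁻¹) (-1 : F) := by rwa [hconj, mul_inv_cancel_right]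
    rw [eig_conj] at hv'
    obtain ⟨x, hx, rfl⟩ := hv'
    rw [hr', Subgroup.coe_mul, Subgroup.coe_mul, mul_app, mul_app, LinearEquiv.coe_coe, Subgroup.coe_inv]
    show (g : V ≃ₗ[F] V) ((r : V ≃ₗ[F] V) ((g : V ≃ₗ[F] V).symm ((g : V ≃ₗ[F] V) x))) = _
    rw [LinearEquiv.symm_apply_apply, hrf x hx]
  -- dimensions of the negated spaces
  have edr : finrank F (eig r' (-1 : F)) = 8 := by rw [hr', finrank_eig_conj, edr₀]
  obtain ⟨j, hzz, hz1, hzt, hzr, hct, hcr⟩ := exists_central (t := (⟨t, htX⟩ : X)) (t' := ⟨r', hr'X⟩)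
    (Subtype.ext htt) (Subtype.ext hr'r') fun k hk => by
    have h46 := finrank_eig_conj (k : O Q) t (-1 : F)
    rw [show (k : O Q) * t * (k : O Q)⁻¹ = r' from congrArg Subtype.val hk, edr, edt] at h46
    omega
  set z := (t * r') ^ j with hz
  replace hzz : z * z = 1 := congrArg Subtype.val hzz
  replace hz1 : z ≠ 1 := fun e => hz1 (Subtype.ext e)
  replace hzt : Commute z t := congrArg Subtype.val hzt.eq
  replace hzr : Commute z r' := congrArg Subtype.val hzr.eq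
  replace hct : ∃ k ∈ X, k * t * k⁻¹ = z * t ∨ k * r' * k⁻¹ = z * t := by
    obtain ⟨k, hk⟩ := hct
    exact ⟨k, k.2, hk.imp (congrArg Subtype.val) (congrArg Subtype.val)⟩
  replace hcr : ∃ k : O Q, k * t * k⁻¹ = z * r' ∨ k * r' * k⁻¹ = z * r' := by
    obtain ⟨k, hk⟩ := hcr
    exact ⟨k, hk.imp (congrArg Subtype.val) (congrArg Subtype.val)⟩
  have hzX : z ∈ X := pow_mem (mul_mem htX hr'X) j
  have hzf : ∀ v ∈ eig z₀ (-1 : F), (z : V ≃ₗ[F] V) v = v := by
    intro v hv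
    rw [hz]
    clear * - htf hr'f hv
    induction j with
    | zero => simp
    | succ i ih => rw [pow_succ, Subgroup.coe_mul, mul_app, Subgroup.coe_mul, mul_app, hr'f v hv, htf v hv, ih]
  -- z is rational
  have hsq : ∀ {a b : O Q}, Commute a b → a * a = 1 → b * b = 1 → a * b * (a * b) = 1 := fun hab ha hb => by
    rw [hab.symm.mul_mul_mul_comm, ha, hb, one_mul]
  have hunequal : ∀ x : O Q, x * x = 1 → (finrank F (eig x (-1 : F)) = 4 ∨ finrank F (eig x (-1 : F)) = 8) →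
      finrank F (eig x (1 : F)) ≠ finrank F (eig x (-1)) := fun x hxx hd => by
    have := finrank_eig_add h2 hxx
    omega
  have hzS : R.Stab z := stab_of_invol_twelve hQ h2 hn hX hT hzX htR htt htR htt hzt.eq (by omega) (by omega)
  have hztd : finrank F (eig (z * t) (-1 : F)) = 4 ∨ finrank F (eig (z * t) (-1 : F)) = 8 := by
    obtain ⟨k, -, hk | hk⟩ := hct
    · exact Or.inl (by rw [← hk, finrank_eig_conj, edt])
    · exact Or.inr (by rw [← hk, finrank_eig_conj, edr])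
  have hzR : R.RatEl z := by
    have h := (ratEl_of_unequal (by omega) (stab_mul hzS htR) (hunequal _ (hsq hzt hzz htt) hztd)).mul htR
    rwa [mul_assoc, htt, mul_one] at h
  -- its conjugate is rational
  set z' := g⁻¹ * z * g with hz'
  have hgz : g * z' = z * g := by rw [hz']; group
  have hz'X : z' ∈ X := mul_mem (mul_mem (inv_mem hg) hzX) hg
  have hz'z' : z' * z' = 1 := by
    rw [hz', show g⁻¹ * z * g * (g⁻¹ * z * g) = g⁻¹ * (z * z) * g by group, hzz, mul_one, inv_mul_cancel]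
  have hz'r : Commute z' r := by
    show z' * r = r * z'
    rw [hz', show g⁻¹ * z * g * r = g⁻¹ * (z * r') * g by rw [hr']; group, hzr.eq, hr']
    group
  have hz'S : R.Stab z' :=
    stab_of_invol_twelve hQ h2 hn hX hT hz'X hrR hrr hrR hrr hz'r.eq (by omega) (by omega)
  have hzrd : finrank F (eig (z' * r) (-1 : F)) = 4 ∨ finrank F (eig (z' * r) (-1 : F)) = 8 := by
    have h1 : g * (z' * r) = z * r' * g := by rw [hz', hr']; group
    rw [finrank_eig_of_conj h1]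
    obtain ⟨k, hk | hk⟩ := hcr
    · exact Or.inl (by rw [← hk, finrank_eig_conj, edt])
    · exact Or.inr (by rw [← hk, finrank_eig_conj, edr])
  have hz'R : R.RatEl z' := by
    have h := (ratEl_of_unequal (by omega) (stab_mul hz'S hrR) (hunequal _ (hsq hz'r hz'z' hrr) hzrd)).mul hrR
    rwa [mul_assoc, hrr, mul_one] at h
  have hzc : Commute z z₀ := commute_of_fix hQ hzz hi₀ hzf
  refine ⟨z', z, hz'R, hz'z', hzR, hzz, hgz, hzc, ?_, hzf, ?_, ?_⟩
  · show z' * z₀' = z₀' * z'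
    have e : z₀' = g⁻¹ * z₀ * g := by rw [mul_assoc, ← hconj, inv_mul_cancel_left]
    rw [hz', e, show g⁻¹ * z * g * (g⁻¹ * z₀ * g) = g⁻¹ * (z * z₀) * g by group, hzc.eq]
    group
  · rw [finrank_eig_of_conj hgz]
    exact Cfsg.Agent.H97.OmegaEight.Sub.invol_even h2 hzz (hX.le hzX)
  rw [finrank_eig_of_conj hgz]
  refine ⟨?_, ?_, fun h12 => ?_⟩
  · by_contra h0
    have h00 : eig z (-1 : F) = ⊥ := Submodule.finrank_eq_zero.1 (by omega)
    refine hz1 (O.ext_app fun v => ?_)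
    have hmem : v - (z : V ≃ₗ[F] V) v ∈ eig z (-1 : F) := by
      rw [mem_eig, map_sub, invol_app hzz, neg_one_smul, neg_sub]
    rw [h00, Submodule.mem_bot, sub_eq_zero] at hmem
    exact hmem.symm
  · intro ha2
    -- the negated space of `z` against that of `t`
    have hzts : Commute (z * t) t := hzt.mul_left (Commute.refl t)
    have hzt2 : z * t * (z * t) = 1 := by rw [hzt.symm.mul_mul_mul_comm, hzz, htt, one_mul]
    have s1 := finrank_eig_split h2 htt hzt (-1 : F)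
    have s2 := finrank_eig_split h2 hzz hzt.symm (-1 : F)
    have s3 := finrank_eig_split h2 htt hzts (-1 : F)
    have e1 : eig (z * t) (-1 : F) ⊓ eig t 1 = eig z (-1 : F) ⊓ eig t 1 := by
      ext v
      simp only [Submodule.mem_inf, mem_eig, Subgroup.coe_mul, mul_app]
      exact and_congr_left fun h => by rw [h, one_smul]
    have e2 : eig (z * t) (-1 : F) ⊓ eig t (-1) = eig t (-1 : F) ⊓ eig z 1 := by
      ext v
      simp only [Submodule.mem_inf, mem_eig, Subgroup.coe_mul, mul_app]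
      constructor
      · rintro ⟨h1, h3⟩
        rw [h3, map_smul, neg_one_smul, neg_one_smul, neg_inj] at h1
        exact ⟨h3, by rw [one_smul, h1]⟩
      · rintro ⟨h1, h3⟩
        exact ⟨by rw [h1, map_smul, h3, one_smul], h1⟩
    rw [e1, e2] at s3
    rw [inf_comm (eig t (-1 : F)) (eig z (-1 : F))] at s2
    have hb : finrank F ↥(eig z (-1 : F) ⊓ eig t 1) + finrank F (eig z₀ (-1 : F)) ≤ finrank F (eig t (1 : F)) := by
      have hle : eig z₀ (-1 : F) ≤ eig t 1 := fun v hv => by rw [mem_eig, one_smul, htf v hv]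
      have hdis : eig z (-1 : F) ⊓ eig t 1 ⊓ eig z₀ (-1) = ⊥ := eq_bot_iff.2 fun v hv => by
        have h1 := mem_eig.1 hv.1.1
        rw [hzf v hv.2, neg_one_smul, eq_neg_iff_add_eq_zero, ← two_smul F, smul_eq_zero] at h1
        exact (Submodule.mem_bot F).2 (h1.resolve_left h2)
      have h := Submodule.finrank_sup_add_finrank_inf_eq (eig z (-1 : F) ⊓ eig t 1) (eig z₀ (-1 : F))
      rw [hdis, finrank_bot] at h
      have h' := Submodule.finrank_mono (sup_le inf_le_right hle :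
        eig z (-1 : F) ⊓ eig t 1 ⊔ eig z₀ (-1) ≤ eig t 1)
      omega
    have hts := finrank_eig_add h2 htt
    omega
  · have htop : eig z (-1 : F) = ⊤ := Submodule.eq_top_of_finrank_eq (by omega)
    have hneg : ∀ v, (z : V ≃ₗ[F] V) v = -v := fun v => by
      simpa using mem_eig.1 (htop ▸ Submodule.mem_top : v ∈ eig z (-1 : F))
    refine ⟨hneg, ?_⟩
    obtain ⟨k, hkX, hk | hk⟩ := hct
    · have hd := hztd
      have he : eig (z * t) (-1 : F) = eig t (1 : F) := by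
        ext v
        simp only [mem_eig, Subgroup.coe_mul, mul_app, hneg, neg_one_smul, one_smul, neg_inj]
      have h4 := finrank_eig_conj k t (-1 : F)
      rw [hk, he, edt] at h4
      have := finrank_eig_add h2 htt
      omega
    · refine ⟨k * g, mul_mem hkX hg, ?_⟩
      rw [← hk, hr']
      group

/-- A second round: negate inside the fixed spaces. -/
theorem round_two {g z₀' z₀ : O Q} (hg : g ∈ X) (hR₀' : R.RatEl z₀') (hi₀' : z₀' * z₀' = 1)
    (hR₀ : R.RatEl z₀) (hi₀ : z₀ * z₀ = 1) (hconj : g * z₀' = z₀ * g)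
    (hj : finrank F (eig z₀' (-1 : F)) = 2) :
    ∃ z' z : O Q, R.RatEl z' ∧ z' * z' = 1 ∧ R.RatEl z ∧ z * z = 1 ∧ g * z' = z * g ∧
      Commute z z₀ ∧ Commute z' z₀' ∧ (∀ v ∈ eig z₀ (-1 : F), (z : V ≃ₗ[F] V) v = v) ∧
      1 ≤ finrank F (eig z' (-1 : F)) ∧ finrank F (eig z' (-1 : F)) ≤ 8 := by
  have := R.finiteDimensional
  have hsum' := finrank_eig_add h2 hi₀'
  have hsum := finrank_eig_add h2 hi₀
  have hd₀ : finrank F (eig z₀ (-1 : F)) = finrank F (eig z₀' (-1 : F)) := (finrank_eig_of_conj hconj _).symm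
  obtain ⟨r, hrc, hrR, hrr, hdr, hrfix, -⟩ :=
    exists_negation hQ h2 (nondeg_eig₀ h2 hR₀' hi₀' (Or.inl rfl)) 4
      (by rw [finrank_eig₀ h2 hR₀' hi₀' (Or.inl rfl)]; omega)
  obtain ⟨t, htc, htR, htt, hdt, htfix, -⟩ :=
    exists_negation hQ h2 (nondeg_eig₀ h2 hR₀ hi₀ (Or.inl rfl)) 2
      (by rw [finrank_eig₀ h2 hR₀ hi₀ (Or.inl rfl)]; omega)
  have hfixneg : ∀ {s w : O Q}, R.RatEl w → w * w = 1 →
      (∀ v : R.V₀, v ∈ perp R.Q₀ (R.eig₀ w 1) → (s : V ≃ₗ[F] V) v = v) →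
      ∀ v ∈ eig w (-1 : F), (s : V ≃ₗ[F] V) v = v := by
    intro s w hwR hw hfix v hv
    have hle : eig w (-1 : F) ≤ eig s 1 := (eig_le_spanF h2 hwR hw (Or.inr rfl)).trans <| by
      rw [spanF, Submodule.span_le]
      rintro _ ⟨x, hx, rfl⟩
      rw [SetLike.mem_coe, mem_eig, one_smul]
      refine hfix x fun c hc => Subtype.ext ?_
      rw [R.polar_coe, ZeroMemClass.coe_zero]
      exact eig_orth h2 (Or.inl rfl) (mem_eig.2 (R.mem_eig₀.1 hc)) (mem_eig.2 (R.mem_eig₀.1 hx))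
    simpa using mem_eig.1 (hle hv)
  have hrf := hfixneg hR₀' hi₀' hrfix
  have htf := hfixneg hR₀ hi₀ htfix
  obtain ⟨z', z, a1, a2, a3, a4, a5, a6, a7, a8, -, a9, a10, -⟩ := round_twelve' hQ h2 hn hX hT hg hR₀' hi₀' hR₀
    hi₀ hconj hrc hrR hrr (by rw [← finrank_eig₀ h2 hrR hrr (Or.inr rfl)]; omega) hrf
    htc htR htt (by rw [← finrank_eig₀ h2 htR htt (Or.inr rfl)]; omega) htf
  exact ⟨z', z, a1, a2, a3, a4, a5, a6, a7, a8, a9, a10 (by omega)⟩

/-- No new parameters: every element of `X` preserves the rational structure up to a scalar. -/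
theorem stab_of_noNew_odd_twelve' (hsq : ∀ a : F₀, IsSquare (a : F)) {g : O Q} (hg : g ∈ X) : R.Stab g := by
  have := R.finiteDimensional
  have hd0 : finrank F₀ R.V₀ = finrank F V := R.finrank_eq
  have h20 : ringChar F₀ ≠ 2 := by
    intro hc
    have : CharP F₀ 2 := ringChar.of_eq hc
    exact h2 (congrArg Subtype.val (CharTwo.two_eq_zero (R := F₀)))
  have := Fintype.ofFinite F₀
  obtain ⟨ν, hν⟩ := FiniteField.exists_nonsquare h20
  obtain ⟨P⟩ := exists_quad (R := R) (by omega) (1 : F₀)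
  obtain ⟨N⟩ := exists_quad (R := R) (by omega) ν
  have hν0 : ν ≠ 0 := fun e => hν ⟨0, by rw [e, mul_zero]⟩
  obtain ⟨r, hrc, hrR, hrr, hdr, -, -⟩ :=
    exists_negation (R := R) hQ h2 (nondeg_restr_top R.nondeg) 4 (by rw [finrank_top]; omega)
  have h10 : eig (1 : O Q) (-1 : F) = ⊥ := by
    refine eq_bot_iff.2 fun v hv => (Submodule.mem_bot _).2 ?_
    have h := mem_eig.1 hv
    rw [OneMemClass.coe_one, one_app, neg_smul, one_smul, eq_neg_iff_add_eq_zero, ← two_smul F] at h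
    exact (smul_eq_zero.1 h).resolve_left h2
  have hfix : ∀ (s : O Q) v, v ∈ eig (1 : O Q) (-1 : F) → (s : V ≃ₗ[F] V) v = v := fun s v hv => by
    rw [h10, Submodule.mem_bot] at hv
    rw [hv, map_zero]
  have edr : finrank F (eig r (-1 : F)) = 8 := by rw [← finrank_eig₀ h2 hrR hrr (Or.inr rfl)]; omega
  have hround := fun (t : O Q) htc htR htt edt => round_twelve' hQ h2 hn hX hT hg ratEl_one (one_mul 1) ratEl_one
    (one_mul 1) (by simp) hrc hrR hrr edr (hfix r) (t := t) htc htR htt edt (hfix t)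
  obtain ⟨z', z, hR', hi', hR, hi, hgz, ⟨m, hm⟩, h1, h10'⟩ : ∃ z' z : O Q, R.RatEl z' ∧ z' * z' = 1 ∧ R.RatEl z ∧
      z * z = 1 ∧ g * z' = z * g ∧ Even (finrank F (eig z' (-1 : F))) ∧ 1 ≤ finrank F (eig z' (-1 : F)) ∧
      finrank F (eig z' (-1 : F)) ≤ 10 := by
    obtain ⟨z', z, a1, a2, a3, a4, a5, -, -, -, ⟨m, hm⟩, a7, -, a8⟩ := hround P.neg (P.mem_commutator hQ one_ne_zero hsq)
      P.ratEl (P.invol one_ne_zero) (P.finrank_eig one_ne_zero h2)
    obtain ⟨w', w, b1, b2, b3, b4, b5, -, -, -, ⟨n, hn'⟩, b7, -, b8⟩ := hround N.neg (N.mem_commutator hQ hν0 hsq)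
      N.ratEl (N.invol hν0) (N.finrank_eig hν0 h2)
    by_cases hP : finrank F (eig z' (-1 : F)) ≤ 10
    · exact ⟨z', z, a1, a2, a3, a4, a5, ⟨m, hm⟩, a7, hP⟩
    by_cases hN : finrank F (eig w' (-1 : F)) ≤ 10
    · exact ⟨w', w, b1, b2, b3, b4, b5, ⟨n, hn'⟩, b7, hN⟩
    exfalso
    have hz := finrank_eig_add h2 a2
    have hw := finrank_eig_add h2 b2
    obtain ⟨hzn, k, hkX, hk⟩ := a8 (by omega)
    obtain ⟨hwn, l, hlX, hl⟩ := b8 (by omega)
    have hwz : w = z := O.ext_app fun v => by rw [hwn, hzn]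
    rw [hwz] at hl
    have hm' : l * k⁻¹ * P.neg = N.neg * (l * k⁻¹) := O.ext_app fun v => by
      have e1 : k⁻¹ * (z * P.neg) = r * k⁻¹ := by
        rw [eq_mul_inv_iff_mul_eq, mul_assoc, ← hk, inv_mul_cancel_left]
      have e2 : l * k⁻¹ * (z * P.neg) = z * N.neg * (l * k⁻¹) := by
        rw [mul_assoc l, e1, ← mul_assoc, hl, mul_assoc]
      have e3 := congrArg (fun s : O Q => (s : V ≃ₗ[F] V) v) e2
      simp only [Subgroup.coe_mul, mul_app, hzn, map_neg, neg_inj] at e3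
      simpa only [Subgroup.coe_mul, mul_app] using e3
    refine not_conj_quad hν h2 P N ?_ hm'
    exact stab_of_invol_twelve hQ h2 hn hX hT (mul_mem hlX (inv_mem hkX)) P.ratEl (P.invol one_ne_zero) N.ratEl
      (N.invol hν0) hm' (by rw [P.finrank_eig one_ne_zero h2]; omega) (by rw [P.finrank_eig one_ne_zero h2]; omega)
  by_cases h39 : 3 ≤ finrank F (eig z' (-1 : F)) ∧ finrank F (eig z' (-1 : F)) ≤ 9
  · exact stab_of_invol_twelve hQ h2 hn hX hT hg hR' hi' hR hi hgz h39.1 h39.2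
  -- a pair negating a plane
  obtain ⟨y', y, hyR', hyi', hyR, hyi, hgy, hy2⟩ : ∃ y' y : O Q, R.RatEl y' ∧ y' * y' = 1 ∧ R.RatEl y ∧
      y * y = 1 ∧ g * y' = y * g ∧ finrank F (eig y' (-1 : F)) = 2 := by
    rcases (show finrank F (eig z' (-1 : F)) = 2 ∨ finrank F (eig z' (-1 : F)) = 10 by omega) with h | h
    · exact ⟨z', z, hR', hi', hR, hi, hgz, h⟩
    -- negate
    let ν : O Q := ⟨LinearEquiv.neg F, fun x => QuadraticMap.map_neg Q x⟩
    have hν : ∀ v : V, (ν : V ≃ₗ[F] V) v = -v := fun v => rfl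
    have hνc : ∀ a : O Q, Commute a ν := fun a => O.ext_app fun v => by
      simp only [Subgroup.coe_mul, mul_app, hν, map_neg]
    have hνν : ν * ν = 1 := O.ext_app fun v => by simp [mul_app, hν]
    have hνR : R.RatEl ν := fun v hv => by rw [hν]; exact R.V₀.neg_mem hv
    refine ⟨z' * ν, z * ν, hR'.mul hνR, by rw [(hνc z').symm.mul_mul_mul_comm, hi', hνν, one_mul], hR.mul hνR,
      by rw [(hνc z).symm.mul_mul_mul_comm, hi, hνν, one_mul],
      by rw [← mul_assoc, hgz, mul_assoc, (hνc g).eq, mul_assoc], ?_⟩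
    have he : eig (z' * ν) (-1 : F) = eig z' (1 : F) := by
      ext v
      simp only [mem_eig, Subgroup.coe_mul, mul_app, hν, map_neg, neg_one_smul, one_smul, neg_inj]
    rw [he]
    have := finrank_eig_add h2 hi'
    omega
  obtain ⟨x', x, hxR', hxi', hxR, hxi, hgx, hc, hc', hxf, hx1, hx8⟩ :=
    round_two hQ h2 hn hX hT hg hyR' hyi' hyR hyi hgy hy2
  by_cases h3 : 3 ≤ finrank F (eig x' (-1 : F))
  · exact stab_of_invol_twelve hQ h2 hn hX hT hg hxR' hxi' hxR hxi hgx h3 (by omega)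
  obtain ⟨hlt, hconj', hle⟩ := combine (g := g) h2 hyR' hyi' hyR hyi hgy hxR' hxi' hxR hxi hgx hc hc' hxf
    (by rw [finrank_eig₀ h2 hxR' hxi' (Or.inr rfl)]; omega)
  have hii : x' * y' * (x' * y') = 1 := by rw [hc'.symm.mul_mul_mul_comm, hxi', hyi', one_mul]
  rw [finrank_eig₀ h2 (hxR'.mul hyR') hii (Or.inr rfl), finrank_eig₀ h2 hyR' hyi' (Or.inr rfl)] at hlt
  rw [finrank_eig₀ h2 (hxR'.mul hyR') hii (Or.inr rfl), finrank_eig₀ h2 hyR' hyi' (Or.inr rfl),
    finrank_eig₀ h2 hxR' hxi' (Or.inr rfl)] at hle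
  exact stab_of_invol_twelve hQ h2 hn hX hT hg (hxR'.mul hyR') hii (hxR.mul hyR)
    (by rw [hc.symm.mul_mul_mul_comm, hxi, hyi, one_mul]) hconj' (by omega) (by omega)

end Cfsg.Agent.H12.OmegaTwelvePlus
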